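import Groth.Prelude.Def_W4c6eohyperellchar2Gc
import Mathlib.Algebra.CharP.Two
import Mathlib.LinearAlgebra.Quotient.Basic
import Mathlib.LinearAlgebra.LinearIndependent.Lemmas
import Mathlib.Algebra.Module.Prod
import Mathlib.Algebra.BigOperators.Pi

/-! Basis computations for the module `GcMod c k`. -/

namespace Groth.Agent.L13.Dieu

open W4c6eohyperellchar2

variable {c : ℕ} {k : Type*}

section
variable [CommRing k]

theorem coefX_X (n m : ℕ) : coefX (X c k n) m = if m = n ∧ 1 ≤ m ∧ m ≤ c then 1 else 0 := by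
  unfold coefX X
  by_cases h : 1 ≤ m ∧ m ≤ c
  · rw [dif_pos h]
    dsimp only
    split_ifs with h1 h2 h2 <;> first | rfl | (exfalso; omega)
  · rw [dif_neg h, if_neg (fun h' => h h'.2)]

theorem coefX_Y (n m : ℕ) : coefX (Y c k n) m = 0 := by
  unfold coefX Y
  split_ifs <;> simp

theorem coefY_X (n m : ℕ) : coefY (X c k n) m = 0 := by
  unfold coefY X
  split_ifs <;> simp

theorem coefY_Y (n m : ℕ) : coefY (Y c k n) m = if m = n ∧ 1 ≤ m ∧ m ≤ c then 1 else 0 := by
  unfold coefY Y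
  by_cases h : 1 ≤ m ∧ m ≤ c
  · rw [dif_pos h]
    dsimp only
    split_ifs with h1 h2 h2 <;> first | rfl | (exfalso; omega)
  · rw [dif_neg h, if_neg (fun h' => h h'.2)]

theorem X_eq_zero {n : ℕ} (h : ¬ (1 ≤ n ∧ n ≤ c)) : X c k n = 0 := by
  unfold X
  refine Prod.ext (funext fun i => ?_) rfl
  have := i.isLt
  show (if i.val + 1 = n then (1 : k) else 0) = 0
  rw [if_neg (by omega)]

theorem Y_eq_zero {n : ℕ} (h : ¬ (1 ≤ n ∧ n ≤ c)) : Y c k n = 0 := by
  unfold Y
  refine Prod.ext rfl (funext fun i => ?_)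
  have := i.isLt
  show (if i.val + 1 = n then (1 : k) else 0) = 0
  rw [if_neg (by omega)]

theorem F_Y (n : ℕ) : F c k (Y c k n) = 0 := by
  unfold F
  refine Prod.ext (funext fun i => ?_) (funext fun i => ?_) <;> simp [coefX_Y]

theorem F_X_even {n : ℕ} (he : n % 2 = 0) (hn : n ≤ c) : F c k (X c k n) = X c k (n / 2) := by
  unfold F
  refine Prod.ext (funext fun i => ?_) (funext fun i => ?_)
  · have := i.isLt
    show coefX (X c k n) (2 * (i.val + 1)) ^ 2 = if i.val + 1 = n / 2 then 1 else 0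
    rw [coefX_X]
    split_ifs with h1 h2 h2 <;> first | (simp; done) | (exfalso; omega)
  · show coefX (X c k n) _ ^ 2 = (0 : k)
    rw [coefX_X, if_neg (by omega)]
    simp

theorem F_X_odd {n : ℕ} (ho : n % 2 = 1) (hn : n ≤ c) :
    F c k (X c k n) = Y c k (c - (n - 1) / 2) := by
  unfold F
  refine Prod.ext (funext fun i => ?_) (funext fun i => ?_)
  · show coefX (X c k n) _ ^ 2 = (0 : k)
    rw [coefX_X, if_neg (by omega)]
    simp
  · have := i.isLt
    show coefX (X c k n) _ ^ 2 = if i.val + 1 = c - (n - 1) / 2 then 1 else 0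
    rw [coefX_X]
    split_ifs with h1 h2 h2 <;> first | (simp; done) | (exfalso; omega)

variable [ExpChar k 2] [PerfectRing k 2]

theorem V_X {n : ℕ} (h1 : 1 ≤ n) (hn : n ≤ c) :
    V c k (X c k n) = Y c k (2 * c - 2 * n + 1) := by
  unfold V
  refine Prod.ext rfl (funext fun i => ?_)
  have := i.isLt
  show _ = if i.val + 1 = 2 * c - 2 * n + 1 then (1 : k) else 0
  dsimp only
  rw [coefX_X, coefY_X]
  split_ifs with h1 h2 h3 h4 h4 <;> first | (simp; done) | (exfalso; omega)

theorem V_Y (n : ℕ) : V c k (Y c k n) = Y c k (2 * n) := by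
  unfold V
  refine Prod.ext rfl (funext fun i => ?_)
  have := i.isLt
  show _ = if i.val + 1 = 2 * n then (1 : k) else 0
  dsimp only
  rw [coefX_Y, coefY_Y]
  split_ifs with h1 h2 h3 h4 h4 <;> first | (simp; done) | (exfalso; omega)

theorem V_iter_Y (n : ℕ) : ∀ m, (V c k)^[n] (Y c k m) = Y c k (2 ^ n * m) := by
  induction n with
  | zero => intro m; simp
  | succ n ih =>
    intro m
    rw [Function.iterate_succ_apply, V_Y, ih, pow_succ, mul_assoc]

theorem F_iter_X (e : ℕ) : ∀ l, 2 ^ e * l ≤ c →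
    (F c k)^[e] (X c k (2 ^ e * l)) = X c k l := by
  induction e with
  | zero => intro l _; simp
  | succ e ih =>
    intro l hl
    have h2 : 2 ^ (e + 1) * l = 2 * (2 ^ e * l) := by ring
    rw [Function.iterate_succ_apply, F_X_even (by omega) hl]
    have h3 : 2 ^ (e + 1) * l / 2 = 2 ^ e * l := by omega
    rw [h3]
    exact ih l (by omega)

/-- Every `Y_m` is a value of `V`. -/
theorem exists_V_eq_Y {m : ℕ} (h1 : 1 ≤ m) (hm : m ≤ c) :
    ∃ n, (m % 2 = 0 ∧ 2 * n = m ∧ V c k (Y c k n) = Y c k m) ∨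
      (m % 2 = 1 ∧ n = c - (m - 1) / 2 ∧ V c k (X c k n) = Y c k m) := by
  rcases Nat.mod_two_eq_zero_or_one m with h | h
  · refine ⟨m / 2, Or.inl ⟨h, by omega, ?_⟩⟩
    rw [V_Y]; congr 1; omega
  · refine ⟨c - (m - 1) / 2, Or.inr ⟨h, rfl, ?_⟩⟩
    rw [V_X (by omega) (by omega)]; congr 1; omega

end

theorem decomp [CommRing k] (v : GcMod c k) :
    v = ∑ i : Fin c, v.1 i • X c k (i.val + 1) + ∑ i : Fin c, v.2 i • Y c k (i.val + 1) := by
  refine Prod.ext (funext fun a => ?_) (funext fun a => ?_)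
  · simp only [Prod.fst_add, Prod.fst_sum, Pi.add_apply, Finset.sum_apply, X, Y, Prod.smul_fst,
      Pi.smul_apply, smul_zero, Pi.zero_apply, Finset.sum_const_zero, add_zero, smul_eq_mul]
    rw [Finset.sum_eq_single a]
    · simp
    · intro b _ hb
      rw [if_neg, mul_zero]
      exact fun h => hb (Fin.ext (by omega))
    · simp
  · simp only [Prod.snd_add, Prod.snd_sum, Pi.add_apply, Finset.sum_apply, X, Y, Prod.smul_snd,
      Pi.smul_apply, smul_zero, Pi.zero_apply, Finset.sum_const_zero, zero_add, smul_eq_mul]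
    rw [Finset.sum_eq_single a]
    · simp
    · intro b _ hb
      rw [if_neg, mul_zero]
      exact fun h => hb (Fin.ext (by omega))
    · simp

theorem eq_top_of_basis [CommRing k] (N : Submodule k (GcMod c k))
    (hX : ∀ n, 1 ≤ n → n ≤ c → X c k n ∈ N) (hY : ∀ n, 1 ≤ n → n ≤ c → Y c k n ∈ N) :
    N = ⊤ := by
  refine Submodule.eq_top_iff'.mpr fun v => ?_
  rw [decomp v]
  refine add_mem (Submodule.sum_mem _ fun i _ => N.smul_mem _ (hX _ (by omega) i.isLt))
    (Submodule.sum_mem _ fun i _ => N.smul_mem _ (hY _ (by omega) i.isLt))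

end Groth.Agent.L13.Dieu
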